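import Cfsg.Agent.H214.OT.Env
import Cfsg.Agent.H712.OT.Even

/-!
# S2539, part 4 (q even): the assembly (helper214)

`end_of` : the context of part 4 is contradictory, from the Sylow case `syl` and the non-Sylow case `nsyl`.
-/

set_option autoImplicit false

namespace Cfsg.Agent.H214.OT

open Subgroup Cfsg.Agent.H712.OT

universe u v w

variable {K : Type u} [Field K] [Fintype K] {Y : Type v} [Group Y] {T M : Subgroup Y}
  {Φ : Type w} {Ψ : Set Φ} {P : Φ → Φ → ℤ}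

/-- the cases in which `T_l` is a Sylow subgroup -/
def SylCase (X : Ctx K Y T M Φ Ψ P) (k l : ℕ) : Prop :=
  (k = 4 ∧ l = 5 ∧ Nat.card Ψ = 6) ∨ (k = 6 ∧ l = 7 ∧ Nat.card Ψ = 6) ∨
    (11 ≤ l ∧ l ^ 2 ≤ tor X l) ∨ (l = 3 ∧ A3 X) ∨
    (k = 4 ∧ l = 5 ∧ A3 X ∧ ∀ r : ℕ, r.Prime → 5 ≤ r → ∀ m ∈ M, m ^ r ∈ T → m ∈ T)

theorem end_of [Finite Y] [Finite Φ] (X : Ctx K Y T M Φ Ψ P) {k : ℕ} (hk : 4 ≤ k) (hK : Fintype.card K = 2 ^ k)
    (syl : ∀ l : ℕ, l.Prime → 3 ≤ l → l ∣ Fintype.card K - 1 → (∀ m ∈ M, m ^ l ∈ T → m ∈ T) → SylCase X k l → False)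
    (nsyl : (Fintype.card K = 16 ∨ Fintype.card K = 64) → A3 X →
      (∀ f, f ∉ M → ∀ t ∈ T, orderOf t = 3 → f⁻¹ * t * f ∉ M) → (∃ m ∈ M, m ∉ T ∧ m ^ 3 ∈ T) → False) : False := by
  have hq : 13 ≤ Fintype.card K := by
    rw [hK]
    have : 2 ^ 4 ≤ 2 ^ k := Nat.pow_le_pow_right (by norm_num) hk
    omega
  obtain ⟨a, ha, b, hb, hab⟩ := X.rank
  obtain ⟨c, hcm, hc, -⟩ := X.add a ha b hb hab
  by_cases h46 : k = 4 ∨ k = 6
  · rcases X.a2_or_a3 ha hb hcm hab hc with hS | ⟨a1, h1, a2, h2, a3, h3, h12, h23, h13⟩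
    · have h6 : Nat.card Ψ = 6 := by
        rw [hS, Nat.card_congr (Equiv.ofInjective _ (X.six_injective hab hc)).symm]
        simp
      rcases h46 with rfl | rfl
      · refine syl 5 (by norm_num) (by norm_num) (by rw [hK]; norm_num) (fun m hm h => ?_) (Or.inl ⟨rfl, rfl, h6⟩)
        exact X.quot_six h6 (by norm_num) (Or.inl rfl) (m := ⟨m, hm⟩) (k := 1) (by simpa using h)
      · refine syl 7 (by norm_num) (by norm_num) (by rw [hK]; norm_num) (fun m hm h => ?_)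
          (Or.inr (Or.inl ⟨rfl, rfl, h6⟩))
        exact X.quot_six h6 (by norm_num) (Or.inr rfl) (m := ⟨m, hm⟩) (k := 1) (by simpa using h)
    · have hA : A3 X := ⟨a1, h1, a2, h2, a3, h3, h12, h23, h13⟩
      have hd : 3 ∣ Fintype.card K - 1 := by
        rw [hK]
        rcases h46 with rfl | rfl <;> norm_num
      by_cases hns : ∃ m ∈ M, m ∉ T ∧ m ^ 3 ∈ T
      · refine nsyl ?_ hA (fun f hf t ht ho hm => X.three hq hd h1 h2 h3 h12 h23 h13 hf ht ho hm) hns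
        rcases h46 with rfl | rfl
        · left; rw [hK]; norm_num
        · right; rw [hK]; norm_num
      · refine syl 3 (by norm_num) le_rfl hd (fun m hm h => ?_) (Or.inr (Or.inr (Or.inr (Or.inl ⟨rfl, hA⟩))))
        by_contra hmT
        exact hns ⟨m, hm, hmT, h⟩
  · obtain ⟨l, hl, h11, hd⟩ := exists_big hk (fun h => h46 (Or.inl h)) (fun h => h46 (Or.inr h))
    have hd' : l ∣ Fintype.card K - 1 := by rw [hK]; exact hd
    refine syl l hl (by omega) hd' (fun m hm h => ?_)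
      (Or.inr (Or.inr (Or.inl ⟨h11, X.card_two hl (by omega) hd' ha hb hab⟩)))
    exact X.quot_big hl h11 (m := ⟨m, hm⟩) (k := 1) (by simpa using h)

end Cfsg.Agent.H214.OT
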