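import Mathlib.LinearAlgebra.Matrix.GeneralLinearGroup.Defs
import Mathlib.GroupTheory.Subgroup.Simple
import Mathlib.FieldTheory.Finite.Basic
import Mathlib.GroupTheory.Index

/-!
# S2539, parts 3.3 and 4: the abstract configuration (helper214)

`Y = F/Z(F)`, `T` the image of the split torus, `L` the simple socle of `Y`, `M = N_Y(T)`.

* `Conf T L` : the group theoretic part (output of part 2);
* `Lat T K n d` : the lattice part: `ℤⁿ = ℤΨ` (coordinates with respect to a base of the irreducible simply laced root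
  system `Ψ` of rank `n`), `d` = determinant of its Cartan matrix, `χ v` = the character of `T` given by `v ∈ ℤΨ`,
  `ρ m` = the action of `m ∈ N_Y(T)` on `ℤΨ` (an element of the Weyl group of `Ψ`).
-/

set_option autoImplicit false

namespace Cfsg.Agent.H214.OT

open Subgroup

universe u v

/-- `T` is an abelian self-centralising TI subgroup of the almost simple group `Y` with socle `L`, `Y = L T`, and
`N(T)` is the only maximal subgroup containing `T`. -/
structure Conf {Y : Type u} [Group Y] (T L : Subgroup Y) : Prop where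
  /-- `T` is abelian -/
  comm : ∀ a ∈ T, ∀ b ∈ T, a * b = b * a
  /-- `T ∩ T^y ≠ 1 → y ∈ N(T)` (elementwise form; contains `C_Y(t) ≤ N(T)` for `1 ≠ t ∈ T`) -/
  ti : ∀ t ∈ T, t ≠ 1 → ∀ y : Y, y * t * y⁻¹ ∈ T → y ∈ normalizer (T : Set Y)
  /-- `C_Y(T) = T` -/
  self : ∀ y : Y, (∀ t ∈ T, t * y = y * t) → y ∈ T
  /-- `N(T) < Y` -/
  proper : normalizer (T : Set Y) ≠ ⊤
  /-- every proper subgroup containing `T` lies in `N(T)` -/
  maxi : ∀ H : Subgroup Y, T ≤ H → H ≠ ⊤ → H ≤ normalizer (T : Set Y)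
  normal : L.Normal
  simple : IsSimpleGroup L
  nonab : ¬ IsMulCommutative L
  /-- `C_Y(L) = 1` -/
  cent : ∀ y : Y, (∀ x ∈ L, x * y = y * x) → y = 1
  /-- `Y = L T` -/
  sup : L ⊔ T = ⊤

/-- The lattice data of the configuration: characters `χ v` (`v ∈ ℤⁿ = ℤΨ`) of `T` with values in `Kˣ`, and the action
`ρ` of `N(T)`. -/
structure Lat {Y : Type u} [Group Y] (T : Subgroup Y) (K : Type v) [Field K] [Fintype K] (n d : ℕ) where
  /-- the characters -/
  χ : (Fin n → ℤ) →+ Additive (T →* Kˣ)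
  /-- the action of `N(T)` on `ℤΨ` -/
  ρ : normalizer (T : Set Y) →* GL (Fin n) ℤ
  /-- the characters separate the elements of `T` -/
  sep : ∀ t : T, (∀ v, (Additive.toMul (χ v)) t = 1) → t = 1
  /-- equivariance: `(ρ(m)v)(t) = v(m⁻¹ t m)` -/
  eqv : ∀ (m : normalizer (T : Set Y)) (v : Fin n → ℤ) (t t' : T), (t' : Y) = (m : Y)⁻¹ * t * m →
    (Additive.toMul (χ ((ρ m : Matrix (Fin n) (Fin n) ℤ).mulVec v))) t = (Additive.toMul (χ v)) t'
  /-- only `T` acts trivially -/
  inj : ∀ m : normalizer (T : Set Y), ρ m = 1 → (m : Y) ∈ T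
  /-- a character which is trivial on the coroot elements is in `(q-1)ℤΨ` up to the determinant `d` -/
  ker : ∀ v, χ v = 0 → ∀ i, ((Fintype.card K - 1 : ℕ) : ℤ) ∣ (d : ℤ) * v i
  /-- the Weyl group acts trivially on `ker χ/(q-1)ℤΨ` -/
  triv : ∀ (m : normalizer (T : Set Y)) (v : Fin n → ℤ), χ v = 0 →
    ∀ i, ((Fintype.card K - 1 : ℕ) : ℤ) ∣ ((ρ m : Matrix (Fin n) (Fin n) ℤ).mulVec v - v) i
  /-- the order of `T` -/
  card : (Fintype.card K - 1) ^ n ∣ d * Nat.card T

/-- rank and determinant of the irreducible simply laced root systems of rank 2, …, 8 -/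
def ranks : List (ℕ × ℕ) :=
  [(2, 3), (3, 4), (4, 5), (4, 4), (5, 6), (5, 4), (6, 7), (6, 4), (6, 3), (7, 8), (7, 4), (7, 2), (8, 9), (8, 4), (8, 1)]

end Cfsg.Agent.H214.OT
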