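import Cfsg.Agent.H712.OT.EvenDefs
import Cfsg.Agent.H298.OT.Two

/-!
# S2539, part 4.4 (END_l): common environment (helper214)

`X : H712.OT.Ctx K Y T M Φ Ψ P` (the torus, the roots), `Env X L` : `M = N(T)`, `H298.OT.Core T` and the simple socle `L`
of `Y` given by `H298.OT.Core.main`.
-/

set_option autoImplicit false

namespace Cfsg.Agent.H214.OT

open Subgroup Cfsg.Agent.H712.OT

universe u v w

variable {K : Type u} [Field K] [Fintype K] {Y : Type v} [Group Y] {T M : Subgroup Y}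
  {Φ : Type w} {Ψ : Set Φ} {P : Φ → Φ → ℤ}

/-- The environment of the end of part 4. -/
structure Env (X : Ctx K Y T M Φ Ψ P) (L : Subgroup Y) : Prop where
  hM : M = normalizer (T : Set Y)
  core : Cfsg.Agent.H298.OT.Core T
  normal : L.Normal
  simple : IsSimpleGroup L
  nonab : ¬ ∀ x y : L, x * y = y * x
  sup : T ⊔ L = ⊤
  cent : centralizer (L : Set Y) = ⊥
  inf : T ⊓ L ≠ ⊥

/-- `Ψ` contains an `A₃` -/
def A3 (_ : Ctx K Y T M Φ Ψ P) : Prop :=
  ∃ a ∈ Ψ, ∃ b ∈ Ψ, ∃ c ∈ Ψ, P a b = -1 ∧ P b c = -1 ∧ P a c = 0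

/-- `x ∈ M` moves every root of `Ψ` by 120 degrees -/
def Nu (X : Ctx K Y T M Φ Ψ P) (x : M) : Prop := ∀ a ∈ Ψ, P (X.act x a) a = -1

/-- the `s`-torsion of `T` has `tor X s` elements -/
noncomputable def tor (_ : Ctx K Y T M Φ Ψ P) (s : ℕ) : ℕ := Nat.card {t : Y // t ∈ T ∧ t ^ s = 1}

end Cfsg.Agent.H214.OT
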