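import Cfsg.Agent.H214.OT.Nu
import Cfsg.Agent.H544.OT.Root
import Cfsg.Agent.H792.OT.Sixteen

/-!
# S2539, part 4.4 (END_l): all the root lemmas (helper214)
-/

set_option autoImplicit false

namespace Cfsg.Agent.H214.OT

open Subgroup Cfsg.Agent.H712.OT

universe u v w

variable {K : Type u} [Field K] [Fintype K] {Y : Type v} [Group Y] {T M : Subgroup Y}
  {Φ : Type w} {Ψ : Set Φ} {P : Φ → Φ → ℤ}

theorem rl [Finite Y] (X : Ctx K Y T M Φ Ψ P) : Cfsg.Agent.H792.OT.RL X where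
  faithful := fun _ hs h hd _ hm hc => H544.OT.faithful X hs h hd hm hc
  quad := fun hd _ hx hx3 hq => H544.OT.nu_of_quadratic X hd hx hx3 hq
  nine := fun hd _ hx3 hq => H544.OT.no_quadratic_nine X hd hx3 hq
  nocomm := fun hA hd _ _ hx hx3 _ hp hp5 hg hxg hc => NuR.no_commuting X hA hd hx hx3 hp hp5 hg hxg hc
  cyc := fun _ _ hxy hx3 hy3 hx hy h1 h2 => NuR.nu_cyclic X hxy hx3 hy3 hx hy h1 h2
  nle := fun hA hd _ hx hx3 _ hR => NuR.nine_le X hA hd hx hx3 hR
  cube := fun hA _ hs h3 hd => H544.OT.cube_le X hA hs h3 hd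
  exponent := fun _ ht => H544.OT.exponent X ht

end Cfsg.Agent.H214.OT
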