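import Cfsg.Agent.H214.OT.Asm
import Cfsg.Agent.H214.OT.RL
import Cfsg.Agent.H186.OT.R7
import Cfsg.Agent.H298.OT.SylFalse
import Cfsg.Agent.H792.OT.Nsyl
import Cfsg.Agent.H792.OT.Outer

/-!
# S2539, part 4.4 (helper214): the context of part 4 (`q` even) is contradictory
-/

set_option autoImplicit false

namespace Cfsg.Agent.H214.OT

open Subgroup Cfsg.Agent.H712.OT

universe u v w

variable {K : Type u} [Field K] [Fintype K] {Y : Type v} [Group Y] {T M : Subgroup Y}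
  {Φ : Type w} {Ψ : Set Φ} {P : Φ → Φ → ℤ}

/-- **part 4.4** -/
theorem end_l [Finite Y] [Finite Φ] (X : Ctx K Y T M Φ Ψ P) {L : Subgroup Y} (E : Env X L) {k : ℕ} (hk : 4 ≤ k)
    (hK : Fintype.card K = 2 ^ k) : False := by
  have syl : ∀ l : ℕ, l.Prime → 3 ≤ l → l ∣ Fintype.card K - 1 → (∀ m ∈ M, m ^ l ∈ T → m ∈ T) → SylCase X k l →
      False := fun l hl hl3 hd hq hcase =>
    Cfsg.Agent.H298.SY.syl_false' X E hk hK hl hl3 hd hq (fun hA => Cfsg.Agent.H186.OT.order_le X hA) hcase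
  refine end_of X hk hK syl fun h16 hA hcl hns => ?_
  refine Cfsg.Agent.H792.OT.nsyl_of X E (rl X) (Cfsg.Agent.H792.OT.env_hJ E) (Cfsg.Agent.H792.OT.env_hG E) h16 hA hcl
    hns fun h hr => ?_
  have hk4 : k = 4 := by
    rw [hK] at h
    exact Nat.pow_right_injective (le_refl 2) (by simpa using h)
  exact syl 5 (by norm_num) (by norm_num) (by rw [h]; norm_num) (fun m hm h5 => hr 5 (by norm_num) le_rfl m hm h5)
    (Or.inr (Or.inr (Or.inr (Or.inr ⟨hk4, rfl, hA, hr⟩))))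

end Cfsg.Agent.H214.OT
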