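import Cfsg.Agent.H214.OT.Env
import Cfsg.Agent.H712.OT.Even

/-!
# S2539, part 4.4 (END_l), R4 - R6: elements of order 3 moving every root by 120 degrees (helper214)
-/

set_option autoImplicit false

namespace Cfsg.Agent.H214.OT.NuR

open Subgroup Cfsg.Agent.H712.OT Cfsg.Agent.H214.OT
open scoped commutatorElement

universe u v w

variable {K : Type u} [Field K] [Fintype K] {Y : Type v} [Group Y] {T M : Subgroup Y}
  {Φ : Type w} {Ψ : Set Φ} {P : Φ → Φ → ℤ}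

section basic

omit [Fintype K] in
theorem exists_zeta [Fintype K] (h : 3 ∣ Fintype.card K - 1) : ∃ ζ : Kˣ, orderOf ζ = 3 := by
  classical
  have hu : Fintype.card Kˣ = Fintype.card K - 1 := Fintype.card_units K
  have : Fact (Nat.Prime 3) := ⟨Nat.prime_three⟩
  exact exists_prime_orderOf_dvd_card 3 (by rw [hu]; exact h)

theorem chi_one (X : Ctx K Y T M Φ Ψ P) {a : Φ} (ha : a ∈ Ψ) : X.χ a 1 = 1 := by
  have h1 := X.χ_mul a ha 1 T.one_mem 1 T.one_mem
  rw [mul_one] at h1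
  exact (left_eq_mul.1 h1)

theorem chi_inv (X : Ctx K Y T M Φ Ψ P) {a : Φ} (ha : a ∈ Ψ) {t : Y} (ht : t ∈ T) : X.χ a t⁻¹ = (X.χ a t)⁻¹ := by
  have h1 := X.χ_mul a ha t ht t⁻¹ (T.inv_mem ht)
  rw [mul_inv_cancel, chi_one X ha] at h1
  exact (inv_eq_of_mul_eq_one_right h1.symm).symm

theorem eq_of_chi (X : Ctx K Y T M Φ Ψ P) {s t : Y} (hs : s ∈ T) (ht : t ∈ T)
    (h : ∀ b ∈ Ψ, X.χ b s = X.χ b t) : s = t := by
  have h1 : s * t⁻¹ = 1 := X.χ_inj _ (T.mul_mem hs (T.inv_mem ht)) fun b hb => by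
    rw [X.χ_mul b hb _ hs _ (T.inv_mem ht), chi_inv X hb ht, h b hb, mul_inv_cancel]
  exact mul_inv_eq_one.1 h1

theorem act_inv_act (X : Ctx K Y T M Φ Ψ P) (m : M) (b : Φ) : X.act m (X.act m⁻¹ b) = b := by
  rw [map_inv]
  exact (X.act m).apply_symm_apply b

theorem conj_h (X : Ctx K Y T M Φ Ψ P) (m : M) {a : Φ} (ha : a ∈ Ψ) (c : Kˣ) :
    (m : Y) * X.h a c * (m : Y)⁻¹ = X.h (X.act m a) c := by
  refine eq_of_chi X (X.conj_mem m m.2 _ (X.h_mem a c)) (X.h_mem _ c) fun b hb => ?_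
  have hb' := X.act_mem m⁻¹ b hb
  have h1 := X.χ_act m _ hb' _ (X.h_mem a c)
  rw [act_inv_act] at h1
  rw [h1, X.χ_h a ha _ hb', X.χ_h _ (X.act_mem m a ha) b hb, ← X.act_P m, act_inv_act]

theorem neg_neg (X : Ctx K Y T M Φ Ψ P) (a : Φ) : X.neg (X.neg a) = a := by
  apply X.two
  rw [X.P_neg, X.P_neg, X.self]
  norm_num

theorem P_neg_right (X : Ctx K Y T M Φ Ψ P) (a b : Φ) : P a (X.neg b) = - P a b := by
  rw [X.symm, X.P_neg, X.symm]

/-- the action on `Ψ` -/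
def aΨ (X : Ctx K Y T M Φ Ψ P) : M →* Equiv.Perm Ψ where
  toFun m := X.actΨ m
  map_one' := by
    apply Equiv.ext
    intro x
    apply Subtype.ext
    change X.act 1 (x : Φ) = x
    simp
  map_mul' m n := by
    apply Equiv.ext
    intro x
    apply Subtype.ext
    change X.act (m * n) (x : Φ) = X.act m (X.act n x)
    simp

theorem aΨ_coe (X : Ctx K Y T M Φ Ψ P) (m : M) (x : Ψ) : (aΨ X m x : Φ) = X.act m x := rfl

theorem aΨ_eq_one (X : Ctx K Y T M Φ Ψ P) {m : M} (h : (m : Y) ∈ T) : aΨ X m = 1 := by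
  apply Equiv.ext
  intro x
  apply Subtype.ext
  exact (X.act_T m).1 h x x.2

theorem aΨ_commute (X : Ctx K Y T M Φ Ψ P) {x g : M} (h : ⁅(x : Y), (g : Y)⁆ ∈ T) : Commute (aΨ X x) (aΨ X g) := by
  have h1 : aΨ X ⁅x, g⁆ = 1 := aΨ_eq_one X (by simpa [commutatorElement_def] using h)
  rw [map_commutatorElement] at h1
  exact commutatorElement_eq_one_iff_commute.1 h1

end basic

section perm

theorem cop {k p : ℕ} (hp : p.Prime) (h0 : 0 < k) (h : k < p) : Nat.Coprime k p :=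
  ((Nat.Prime.coprime_iff_not_dvd hp).2 fun hd => by
    have := Nat.le_of_dvd h0 hd
    omega).symm

variable {α : Type*}

/-- a commuting permutation of order `p` which acts on one point as a power of `x` fixes the point -/
theorem fix_of_eq_pow {x g : Equiv.Perm α} (hc : Commute x g) (hx : x ^ 3 = 1) {p : ℕ} (hp : ¬ 3 ∣ p)
    (hg : g ^ p = 1) {a : α} (ha : x a ≠ a) {j : ℕ} (h : g a = (x ^ j) a) : g a = a := by
  have h1 : ∀ n : ℕ, (g ^ n) a = (x ^ (j * n)) a := by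
    intro n
    induction n with
    | zero => simp
    | succ n ih =>
        have h2 : (g ^ (n + 1)) a = g ((g ^ n) a) := by rw [pow_succ']; rfl
        have h3 : g * x ^ (j * n) = x ^ (j * n) * g := (hc.pow_left _).eq.symm
        have h4 : g ((x ^ (j * n)) a) = (x ^ (j * n)) (g a) := by
          change (g * x ^ (j * n)) a = (x ^ (j * n) * g) a
          rw [h3]
        rw [h2, ih, h4, h]
        change (x ^ (j * n) * x ^ j) a = _
        rw [← pow_add]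
        congr 2
  have h2 := h1 p
  rw [hg] at h2
  have h3 : ∀ n : ℕ, (x ^ n) a = (x ^ (n % 3)) a := by
    intro n
    conv_lhs => rw [← Nat.div_add_mod n 3, pow_add, pow_mul, hx, one_pow, one_mul]
  have h4 : (j * p) % 3 = 0 := by
    rw [h3 (j * p)] at h2
    have h5 : (j * p) % 3 < 3 := Nat.mod_lt _ (by norm_num)
    rcases (by omega : (j * p) % 3 = 0 ∨ (j * p) % 3 = 1 ∨ (j * p) % 3 = 2) with h | h | h
    · exact h
    · rw [h, pow_one] at h2
      exact absurd h2.symm ha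
    · rw [h] at h2
      exfalso
      apply ha
      have h6 : x a = x ((x ^ 2) a) := congrArg x h2
      rw [h6]
      change (x * x ^ 2) a = a
      rw [← pow_succ', hx]
      rfl
  have h5 : 3 ∣ j := by
    have h6 : 3 ∣ j * p := Nat.dvd_of_mod_eq_zero h4
    exact (Nat.prime_three.dvd_mul.1 h6).resolve_right hp
  rw [h, h3 j, Nat.mod_eq_zero_of_dvd h5]
  rfl

theorem fix_of_coprime {g : Equiv.Perm α} {p k : ℕ} (hk : Nat.Coprime k p) (hg : g ^ p = 1) {a : α}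
    (h : (g ^ k) a = a) : g a = a := by
  have h1 : Function.IsPeriodicPt g k a := by
    rw [Function.IsPeriodicPt, Function.IsFixedPt, Equiv.Perm.iterate_eq_pow]
    exact h
  have h2 : Function.IsPeriodicPt g p a := by
    rw [Function.IsPeriodicPt, Function.IsFixedPt, Equiv.Perm.iterate_eq_pow, hg]
    rfl
  have h3 := h1.gcd h2
  rw [hk.gcd_eq_one] at h3
  exact h3

end perm

section nu

theorem act3 (X : Ctx K Y T M Φ Ψ P) {x : M} (hx3 : (x : Y) ^ 3 ∈ T) {a : Φ} (ha : a ∈ Ψ) :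
    X.act x (X.act x (X.act x a)) = a := by
  have h1 := (X.act_T (x ^ 3)).1 (by simpa using hx3) a ha
  rw [map_pow] at h1
  exact h1

theorem sum (X : Ctx K Y T M Φ Ψ P) {x : M} (hx : Nu X x) (hx3 : (x : Y) ^ 3 ∈ T) {a : Φ} (ha : a ∈ Ψ) (b : Φ) :
    P a b + P (X.act x a) b + P (X.act x (X.act x a)) b = 0 := by
  have h1 := hx a ha
  have hxa := X.act_mem x a ha
  obtain ⟨c, hc, hcP, -⟩ := X.add a ha _ hxa (by rw [X.symm]; exact h1)
  have h2 := hx _ hxa
  have h3 : P a (X.act x (X.act x a)) = -1 := by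
    have h4 := X.act_P x (X.act x (X.act x a)) a
    rw [act3 X hx3 ha, X.symm a, h1] at h4
    rw [X.symm, ← h4]
  have h4 : P c (X.act x (X.act x a)) = -2 := by
    rw [hcP, h3, X.symm (X.act x a), h2]
    norm_num
  have h5 := X.eq_neg h4
  have h6 := hcP b
  rw [h5, X.P_neg] at h6
  omega

/-- the condition `[T[3], g, x] = 1` on the roots -/
def Cnd (X : Ctx K Y T M Φ Ψ P) (x g : M) : Prop := ∀ a ∈ Ψ, ∀ b ∈ Ψ,
  (3 : ℤ) ∣ P b a - P b (X.act g a) - P b (X.act x a) + P b (X.act x (X.act g a))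

theorem cnd_of (X : Ctx K Y T M Φ Ψ P) (hd : 3 ∣ Fintype.card K - 1) {x g : M}
    (hc : ∀ t ∈ T, t ^ 3 = 1 → ⁅⁅t, (g : Y)⁆, (x : Y)⁆ = 1) : Cnd X x g := by
  obtain ⟨ζ, hζ⟩ := exists_zeta hd
  have hζ3 : ζ ^ 3 = 1 := by rw [← hζ]; exact pow_orderOf_eq_one ζ
  intro a ha b hb
  have hga := X.act_mem g a ha
  have hxa := X.act_mem x a ha
  have hxga := X.act_mem x _ hga
  have h1 := hc (X.h a ζ) (X.h_mem a ζ) (by rw [← map_pow, hζ3, map_one])
  have h2 : ⁅X.h a ζ, (g : Y)⁆ = X.h a ζ * (X.h (X.act g a) ζ)⁻¹ := by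
    rw [← conj_h X g ha, commutatorElement_def]
    group
  rw [h2] at h1
  have h3 := (commutatorElement_eq_one_iff_mul_comm.1 h1)
  have h4 : (x : Y) * (X.h a ζ * (X.h (X.act g a) ζ)⁻¹) * (x : Y)⁻¹ = X.h a ζ * (X.h (X.act g a) ζ)⁻¹ := by
    rw [← h3]
    group
  have h5 : (x : Y) * (X.h a ζ * (X.h (X.act g a) ζ)⁻¹) * (x : Y)⁻¹ =
      X.h (X.act x a) ζ * (X.h (X.act x (X.act g a)) ζ)⁻¹ := by
    rw [← conj_h X x ha, ← conj_h X x hga]
    group
  rw [h5] at h4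
  have h6 := congrArg (X.χ b) h4
  rw [X.χ_mul b hb _ (X.h_mem _ _) _ (T.inv_mem (X.h_mem _ _)), X.χ_mul b hb _ (X.h_mem _ _) _ (T.inv_mem (X.h_mem _ _)),
    chi_inv X hb (X.h_mem _ _), chi_inv X hb (X.h_mem _ _), X.χ_h _ hxa b hb, X.χ_h _ hxga b hb, X.χ_h _ ha b hb,
    X.χ_h _ hga b hb, ← zpow_neg, ← zpow_neg, ← zpow_add, ← zpow_add] at h6
  have h7 : ζ ^ ((P b a + -P b (X.act g a)) - (P b (X.act x a) + -P b (X.act x (X.act g a)))) = 1 := by
    rw [zpow_sub, h6, mul_inv_cancel]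
  have h8 := orderOf_dvd_iff_zpow_eq_one.2 h7
  rw [hζ] at h8
  have h9 : P b a - P b (X.act g a) - P b (X.act x a) + P b (X.act x (X.act g a)) =
      (P b a + -P b (X.act g a)) - (P b (X.act x a) + -P b (X.act x (X.act g a))) := by ring
  rw [h9]
  exact_mod_cast h8

theorem Cnd.pow (X : Ctx K Y T M Φ Ψ P) {x g : M} (h : Cnd X x g) (k : ℕ) : Cnd X x (g ^ k) := by
  induction k with
  | zero =>
      intro a ha b hb
      simp
  | succ k ih =>
      intro a ha b hb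
      have h1 := h a ha b hb
      have h2 := ih _ (X.act_mem g a ha) b hb
      have h3 : X.act (g ^ (k + 1)) a = X.act (g ^ k) (X.act g a) := by
        rw [pow_succ, map_mul]
        rfl
      rw [h3]
      have h4 := dvd_add h1 h2
      have h5 : P b a - P b (X.act (g ^ k) (X.act g a)) - P b (X.act x a) +
          P b (X.act x (X.act (g ^ k) (X.act g a))) = P b a - P b (X.act g a) - P b (X.act x a) +
          P b (X.act x (X.act g a)) + (P b (X.act g a) - P b (X.act (g ^ k) (X.act g a)) - P b (X.act x (X.act g a)) +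
          P b (X.act x (X.act (g ^ k) (X.act g a)))) := by ring
      rw [h5]
      exact h4

/-- the powers of `x` -/
theorem pow_mod (X : Ctx K Y T M Φ Ψ P) {x : M} (hx3 : (x : Y) ^ 3 ∈ T) {a : Φ} (ha : a ∈ Ψ) (n : ℕ) :
    X.act (x ^ n) a = X.act (x ^ (n % 3)) a := by
  have h1 : aΨ X (x ^ n) = aΨ X (x ^ (n % 3)) := by
    have h2 : aΨ X (x ^ 3) = 1 := aΨ_eq_one X (by simpa using hx3)
    conv_lhs => rw [← Nat.div_add_mod n 3, pow_add, pow_mul, map_mul, map_pow, h2, one_pow, one_mul]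
  have h2 := congrArg (fun q : Equiv.Perm Ψ => (q ⟨a, ha⟩ : Φ)) h1
  exact h2

/-- `g a` is orthogonal to the `A₂` of `a`, or in it -/
theorem orth_or (X : Ctx K Y T M Φ Ψ P) {x g : M} (hx : Nu X x) (hx3 : (x : Y) ^ 3 ∈ T) (h : Cnd X x g)
    {a : Φ} (ha : a ∈ Ψ) : (∀ n : ℕ, P (X.act (x ^ n) a) (X.act g a) = 0) ∨
      ∃ n : ℕ, X.act g a = X.act (x ^ n) a ∨ X.act g a = X.neg (X.act (x ^ n) a) := by
  set c := X.act g a with hcdef
  have hc : c ∈ Ψ := X.act_mem g a ha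
  set a1 := X.act x a with ha1d
  have ha1 : a1 ∈ Ψ := X.act_mem x a ha
  set a2 := X.act x a1 with ha2d
  have ha2 : a2 ∈ Ψ := X.act_mem x a1 ha1
  have h30 : X.act x a2 = a := act3 X hx3 ha
  set c1 := X.act x c with hc1d
  have e0 : X.act (x ^ 0) a = a := by simp
  have e1 : X.act (x ^ 1) a = a1 := by rw [pow_one]
  have e2 : X.act (x ^ 2) a = a2 := by rw [map_pow]; rfl
  have s1 := sum X hx hx3 ha c
  rw [← ha1d, ← ha2d] at s1
  have p1 : P a c1 = P a2 c := by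
    rw [← h30]
    exact X.act_P x a2 c
  have p2 : P a2 c1 = P a1 c := X.act_P x a1 c
  have q0 : P a a1 = -1 := by rw [X.symm]; exact hx a ha
  have q1 : P a2 a1 = -1 := hx a1 ha1
  have q2 : P a2 a = -1 := by
    have h4 := X.act_P x a2 a
    rw [h30, ← ha1d] at h4
    rw [← h4, q0]
  have k1 := h a ha a ha
  rw [← hcdef, ← ha1d, ← hc1d, X.self, q0, p1] at k1
  have k2 := h a ha a2 ha2
  rw [← hcdef, ← ha1d, ← hc1d, q1, q2, p2, ← p1] at k2
  have b0 := abs_le.1 (X.P_abs a c)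
  have b1 := abs_le.1 (X.P_abs a1 c)
  have b2 := abs_le.1 (X.P_abs a2 c)
  rw [p1] at k2
  have hcases : (P a c = 0 ∧ P a1 c = 0 ∧ P a2 c = 0) ∨ P a c = 2 ∨ P a c = -2 ∨ P a1 c = 2 ∨ P a1 c = -2 ∨
      P a2 c = 2 ∨ P a2 c = -2 := by
    omega
  have neg' : ∀ y, P y c = -2 → c = X.neg y := fun y hy => X.eq_neg (by rw [X.symm]; exact hy)
  rcases hcases with ⟨z0, z1, z2⟩ | z | z | z | z | z | z
  · left
    intro n
    rw [pow_mod X hx3 ha n]
    have hn : n % 3 < 3 := Nat.mod_lt _ (by norm_num)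
    rcases (by omega : n % 3 = 0 ∨ n % 3 = 1 ∨ n % 3 = 2) with h | h | h
    · rw [h, e0]; exact z0
    · rw [h, e1]; exact z1
    · rw [h, e2]; exact z2
  · exact Or.inr ⟨0, Or.inl (by rw [e0]; exact (X.two _ _ z).symm)⟩
  · exact Or.inr ⟨0, Or.inr (by rw [e0]; exact neg' _ z)⟩
  · exact Or.inr ⟨1, Or.inl (by rw [e1]; exact (X.two _ _ z).symm)⟩
  · exact Or.inr ⟨1, Or.inr (by rw [e1]; exact neg' _ z)⟩
  · exact Or.inr ⟨2, Or.inl (by rw [e2]; exact (X.two _ _ z).symm)⟩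
  · exact Or.inr ⟨2, Or.inr (by rw [e2]; exact neg' _ z)⟩

theorem nu_ne (X : Ctx K Y T M Φ Ψ P) {x : M} (hx : Nu X x) {a : Φ} (ha : a ∈ Ψ) : X.act x a ≠ a := by
  intro h
  have h1 := hx a ha
  rw [h, X.self] at h1
  omega

/-- an element of order `p ≥ 5` which maps `a` into its `A₂` fixes `a` -/
theorem fixes (X : Ctx K Y T M Φ Ψ P) {x g : M} (hx : Nu X x) (hx3 : (x : Y) ^ 3 ∈ T) {p : ℕ} (hp : p.Prime)
    (hp5 : 5 ≤ p) (hg : aΨ X g ^ p = 1) (hc : Commute (aΨ X x) (aΨ X g)) {a : Φ} (ha : a ∈ Ψ) {n : ℕ}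
    (h : X.act g a = X.act (x ^ n) a ∨ X.act g a = X.neg (X.act (x ^ n) a)) : X.act g a = a := by
  have h3 : aΨ X x ^ 3 = 1 := by
    rw [← map_pow]
    exact aΨ_eq_one X (by simpa using hx3)
  have hp3 : ¬ 3 ∣ p := by
    intro h
    have := (Nat.prime_dvd_prime_iff_eq Nat.prime_three hp).1 h
    omega
  have hne : aΨ X x ⟨a, ha⟩ ≠ ⟨a, ha⟩ := fun h => nu_ne X hx ha (congrArg Subtype.val h)
  rcases h with h | h
  · have h4 : aΨ X g ⟨a, ha⟩ = (aΨ X x ^ n) ⟨a, ha⟩ := by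
      apply Subtype.ext
      rw [← map_pow]
      exact h
    exact congrArg Subtype.val (fix_of_eq_pow hc h3 hp3 hg hne h4)
  · have hcomm : X.act g (X.act (x ^ n) a) = X.act (x ^ n) (X.act g a) := by
      have h5 : Commute (aΨ X (x ^ n)) (aΨ X g) := by
        rw [map_pow]
        exact hc.pow_left n
      exact congrArg (fun q : Equiv.Perm Ψ => (q ⟨a, ha⟩ : Φ)) h5.eq.symm
    have h6 : X.act g (X.act g a) = X.act (x ^ (n + n)) a := by
      conv_lhs => rw [h]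
      rw [X.act_neg, hcomm, h, X.act_neg, neg_neg, pow_add, map_mul]
      rfl
    have h7 : (aΨ X g ^ 2) ⟨a, ha⟩ = (aΨ X x ^ (n + n)) ⟨a, ha⟩ := by
      apply Subtype.ext
      rw [← map_pow, ← map_pow, pow_two]
      change X.act (g * g) a = X.act (x ^ (n + n)) a
      rw [map_mul]
      exact h6
    have h8 := fix_of_eq_pow (hc.pow_right 2) h3 hp3 (by rw [← pow_mul, mul_comm, pow_mul, hg, one_pow]) hne h7
    have h9 : Nat.Coprime 2 p := by
      rw [Nat.coprime_primes Nat.prime_two hp]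
      omega
    exact congrArg Subtype.val (fix_of_coprime h9 hg h8)

/-- the `A₂` of `g ^ k a` is orthogonal to that of `a` -/
theorem orth_pow (X : Ctx K Y T M Φ Ψ P) {x g : M} (hx : Nu X x) (hx3 : (x : Y) ^ 3 ∈ T) {p : ℕ} (hp : p.Prime)
    (hp5 : 5 ≤ p) (hg : aΨ X g ^ p = 1) (hc : Commute (aΨ X x) (aΨ X g)) (h : Cnd X x g) {a : Φ} (ha : a ∈ Ψ)
    (hne : X.act g a ≠ a) {k : ℕ} (hk : Nat.Coprime k p) (s t : ℕ) :
    P (X.act (x ^ s) a) (X.act (x ^ t) (X.act (g ^ k) a)) = 0 := by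
  have h1 : ∀ n : ℕ, P (X.act (x ^ n) a) (X.act (g ^ k) a) = 0 := by
    rcases orth_or X hx hx3 (h.pow X k) ha with h1 | ⟨n, h1⟩
    · exact h1
    · exfalso
      apply hne
      have h2 : X.act (g ^ k) a = a := fixes X hx hx3 hp hp5 (by rw [map_pow, ← pow_mul, mul_comm, pow_mul, hg, one_pow])
        (by rw [map_pow]; exact hc.pow_right k) ha h1
      have h3 : (aΨ X g ^ k) ⟨a, ha⟩ = ⟨a, ha⟩ := by
        apply Subtype.ext
        rw [← map_pow]
        exact h2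
      exact congrArg Subtype.val (fix_of_coprime hk hg h3)
  have h2 : X.act (x ^ s) a = X.act (x ^ t) (X.act (x ^ (s + 2 * t)) a) := by
    have h3 : X.act (x ^ t) (X.act (x ^ (s + 2 * t)) a) = X.act (x ^ (t + (s + 2 * t))) a := by
      rw [pow_add x t, map_mul]
      rfl
    rw [h3, pow_mod X hx3 ha s, pow_mod X hx3 ha (t + (s + 2 * t))]
    congr 3
    omega
  rw [h2, X.act_P]
  exact h1 _

/-- no five pairwise orthogonal roots have product 1 with a root -/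
theorem five (X : Ctx K Y T M Φ Ψ P) {b : Φ} (hb : b ∈ Ψ) (d : ℕ → Φ) (hd : ∀ i < 5, d i ∈ Ψ)
    (h1 : ∀ i < 5, P b (d i) = 1) (h0 : ∀ i < 5, ∀ j < 5, i < j → P (d i) (d j) = 0) : False := by
  have key : ∀ k ≤ 4, ∃ c ∈ Ψ, ∀ y, P c y = P b y - ∑ i ∈ Finset.range k, P (d i) y := by
    intro k hk
    induction k with
    | zero => exact ⟨b, hb, fun y => by simp⟩
    | succ k ih =>
        obtain ⟨c, hc, hcP⟩ := ih (by omega)
        have h2 : P c (X.neg (d k)) = -1 := by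
          rw [P_neg_right X, hcP, h1 k (by omega), Finset.sum_eq_zero]
          · norm_num
          · intro i hi
            exact h0 i (by have := Finset.mem_range.1 hi; omega) k (by omega) (Finset.mem_range.1 hi)
        obtain ⟨e, he, heP, -⟩ := X.add c hc _ (X.neg_mem _ (hd k (by omega))) h2
        refine ⟨e, he, fun y => ?_⟩
        rw [heP, hcP, X.P_neg, Finset.sum_range_succ]
        ring
  obtain ⟨c, hc, hcP⟩ := key 4 le_rfl
  have h2 : P c b = -2 := by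
    rw [hcP, X.self]
    simp only [Finset.sum_range_succ, Finset.sum_range_zero]
    rw [X.symm (d 0), X.symm (d 1), X.symm (d 2), X.symm (d 3), h1 0 (by norm_num), h1 1 (by norm_num),
      h1 2 (by norm_num), h1 3 (by norm_num)]
    norm_num
  have h3 := X.eq_neg h2
  have h4 := hcP (d 4)
  rw [h3, X.P_neg, h1 4 (by norm_num)] at h4
  simp only [Finset.sum_range_succ, Finset.sum_range_zero] at h4
  rw [h0 0 (by norm_num) 4 (by norm_num) (by norm_num), h0 1 (by norm_num) 4 (by norm_num) (by norm_num),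
    h0 2 (by norm_num) 4 (by norm_num) (by norm_num), h0 3 (by norm_num) 4 (by norm_num) (by norm_num)] at h4
  omega

/-- a root outside the `A₂` of `a` and not orthogonal to it -/
theorem exists_out (X : Ctx K Y T M Φ Ψ P) (hA : A3 X) {x : M} (hx : Nu X x) (hx3 : (x : Y) ^ 3 ∈ T) {a : Φ}
    (ha : a ∈ Ψ) : ∃ b ∈ Ψ, (∃ r : ℕ, P b (X.act (x ^ r) a) ≠ 0) ∧
      ∀ n : ℕ, P b (X.act (x ^ n) a) ≠ 2 ∧ P b (X.act (x ^ n) a) ≠ -2 := by
  have hpm : ∀ n : ℕ, X.act (x ^ n) a ∈ Ψ := fun n => X.act_mem _ _ ha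
  -- products inside the `A₂`
  have hin : ∀ r s : ℕ, P (X.act (x ^ r) a) (X.act (x ^ s) a) ≠ 0 := by
    intro r s
    have h2 : X.act (x ^ r) a = X.act (x ^ s) (X.act (x ^ (r + 2 * s)) a) := by
      have h3 : X.act (x ^ s) (X.act (x ^ (r + 2 * s)) a) = X.act (x ^ (s + (r + 2 * s))) a := by
        rw [pow_add x s, map_mul]
        rfl
      rw [h3, pow_mod X hx3 ha r, pow_mod X hx3 ha (s + (r + 2 * s))]
      congr 3
      omega
    rw [h2, X.act_P, pow_mod X hx3 ha]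
    have hn : (r + 2 * s) % 3 < 3 := Nat.mod_lt _ (by norm_num)
    have e0 : P (X.act (x ^ 0) a) a = 2 := by simp [X.self]
    have e1 : P (X.act (x ^ 1) a) a = -1 := by rw [pow_one]; exact hx a ha
    have e2 : P (X.act (x ^ 2) a) a = -1 := by
      have h4 := sum X hx hx3 ha a
      have h5 := hx a ha
      rw [X.self, h5] at h4
      have h6 : X.act (x ^ 2) a = X.act x (X.act x a) := by rw [map_pow]; rfl
      rw [h6]
      omega
    rcases (by omega : (r + 2 * s) % 3 = 0 ∨ (r + 2 * s) % 3 = 1 ∨ (r + 2 * s) % 3 = 2) with h | h | h <;> rw [h]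
    · rw [e0]; norm_num
    · rw [e1]; norm_num
    · rw [e2]; norm_num
  set S : Set Φ := {c | c ∈ Ψ ∧ ∃ n : ℕ, c = X.act (x ^ n) a ∨ c = X.neg (X.act (x ^ n) a)} with hS
  have hSn : ∀ c ∈ S, ∀ d ∈ S, P c d ≠ 0 := by
    rintro c ⟨-, n, hn⟩ d ⟨-, m, hm⟩
    rcases hn with rfl | rfl <;> rcases hm with rfl | rfl
    · exact hin _ _
    · rw [P_neg_right X]
      exact neg_ne_zero.2 (hin _ _)
    · rw [X.P_neg]
      exact neg_ne_zero.2 (hin _ _)
    · rw [X.P_neg, P_neg_right X]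
      exact neg_ne_zero.2 (neg_ne_zero.2 (hin _ _))
  have hSne : S ≠ Ψ := by
    intro h
    obtain ⟨a1, h1, a2, -, a3, h3, -, -, h13⟩ := hA
    exact hSn a1 (h ▸ h1) a3 (h ▸ h3) h13
  obtain ⟨a', ha', b, hb, hbS, hne⟩ := X.irred S (fun c hc => hc.1) ⟨a, ha, 0, Or.inl (by simp)⟩ hSne
  refine ⟨b, hb, ?_, fun n => ⟨fun h => ?_, fun h => ?_⟩⟩
  · obtain ⟨-, r, h | h⟩ := ha'
    · refine ⟨r, ?_⟩
      rw [X.symm, ← h]
      exact hne
    · refine ⟨r, ?_⟩
      rw [h, X.P_neg] at hne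
      rw [X.symm]
      exact fun h => hne (by rw [h]; norm_num)
  · exact hbS ⟨hb, n, Or.inl (X.two _ _ h)⟩
  · exact hbS ⟨hb, n, Or.inr (X.eq_neg h)⟩

/-- **R4** -/
theorem no_commuting (X : Ctx K Y T M Φ Ψ P) (hA : A3 X) (hd : 3 ∣ Fintype.card K - 1) {x g : M}
    (hx : Nu X x) (hx3 : (x : Y) ^ 3 ∈ T) {p : ℕ} (hp : p.Prime) (hp5 : 5 ≤ p) (hg : (g : Y) ^ p ∈ T)
    (hxg : ⁅(x : Y), (g : Y)⁆ ∈ T) (hc : ∀ t ∈ T, t ^ 3 = 1 → ⁅⁅t, (g : Y)⁆, (x : Y)⁆ = 1) : (g : Y) ∈ T := by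
  by_contra hgT
  rw [X.act_T] at hgT
  push Not at hgT
  obtain ⟨a, ha, hne⟩ := hgT
  have hcnd := cnd_of X hd hc
  have hcom := aΨ_commute X hxg
  have hgp : aΨ X g ^ p = 1 := by
    rw [← map_pow]
    exact aΨ_eq_one X (by simpa using hg)
  obtain ⟨b, hb, ⟨r, hr⟩, hb2⟩ := exists_out X hA hx hx3 ha
  have e0 : ∀ u : Φ, X.act (x ^ 0) u = u := fun u => by simp
  have e1 : ∀ u : Φ, X.act (x ^ 1) u = X.act x u := fun u => by rw [pow_one]
  have e2 : ∀ u : Φ, X.act (x ^ 2) u = X.act x (X.act x u) := fun u => by rw [map_pow]; rfl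
  -- the products of `b` with the `A₂` of `a`
  have hr' : P b a ≠ 0 ∨ P b (X.act x a) ≠ 0 ∨ P b (X.act x (X.act x a)) ≠ 0 := by
    rw [pow_mod X hx3 ha] at hr
    have hn : r % 3 < 3 := Nat.mod_lt _ (by norm_num)
    rcases (by omega : r % 3 = 0 ∨ r % 3 = 1 ∨ r % 3 = 2) with h | h | h <;> rw [h] at hr
    · rw [e0] at hr; exact Or.inl hr
    · rw [e1] at hr; exact Or.inr (Or.inl hr)
    · rw [e2] at hr; exact Or.inr (Or.inr hr)
  have sa := sum X hx hx3 ha b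
  rw [X.symm a, X.symm (X.act x a), X.symm (X.act x (X.act x a))] at sa
  have c0 := hb2 0
  have c1 := hb2 1
  have c2 := hb2 2
  rw [e0] at c0
  rw [e1] at c1
  rw [e2] at c2
  have z0 := abs_le.1 (X.P_abs b a)
  have z1 := abs_le.1 (X.P_abs b (X.act x a))
  have z2 := abs_le.1 (X.P_abs b (X.act x (X.act x a)))
  -- the roots `d k`
  have hdk : ∀ k < 5, ∃ n : ℕ, P b (X.act (x ^ n) (X.act (g ^ k) a)) = 1 := by
    intro k hk
    have hka : X.act (g ^ k) a ∈ Ψ := X.act_mem _ _ ha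
    have hxk : ∀ n : ℕ, X.act (g ^ k) (X.act (x ^ n) a) = X.act (x ^ n) (X.act (g ^ k) a) := by
      intro n
      have h5 : Commute (aΨ X (x ^ n)) (aΨ X (g ^ k)) := by
        rw [map_pow, map_pow]
        exact (hcom.pow_left n).pow_right k
      exact congrArg (fun q : Equiv.Perm Ψ => (q ⟨a, ha⟩ : Φ)) h5.eq.symm
    have sk := sum X hx hx3 hka b
    rw [X.symm _ b, X.symm (X.act x _) b, X.symm (X.act x (X.act x _)) b] at sk
    have w0 := abs_le.1 (X.P_abs b (X.act (g ^ k) a))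
    have w1 := abs_le.1 (X.P_abs b (X.act x (X.act (g ^ k) a)))
    have w2 := abs_le.1 (X.P_abs b (X.act x (X.act x (X.act (g ^ k) a))))
    have hno : ∀ n : ℕ, P b (X.act (x ^ n) (X.act (g ^ k) a)) ≠ 2 ∧ P b (X.act (x ^ n) (X.act (g ^ k) a)) ≠ -2 := by
      rcases Nat.eq_zero_or_pos k with rfl | hk0
      · intro n
        have : X.act (g ^ 0) a = a := by simp
        rw [this]
        exact hb2 n
      · have hkp : Nat.Coprime k p := (cop hp (by omega) (by omega))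
        intro n
        have h6 := orth_pow X hx hx3 hp hp5 hgp hcom hcnd ha hne hkp r n
        constructor
        · intro h
          rw [← X.two _ _ h] at h6
          apply hr
          rw [X.symm]
          exact h6
        · intro h
          have h7 := X.eq_neg h
          apply hr
          rw [h7, X.P_neg, X.symm, h6]
          norm_num
    have u0 := hno 0
    have u1 := hno 1
    have u2 := hno 2
    rw [e0] at u0
    rw [e1] at u1
    rw [e2] at u2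
    have k0 := hcnd.pow X k a ha b hb
    have k1 := hcnd.pow X k _ (X.act_mem x a ha) b hb
    have y1 := hxk 1
    rw [e1, e1] at y1
    rw [y1] at k1
    have hfin : P b (X.act (g ^ k) a) = 1 ∨ P b (X.act x (X.act (g ^ k) a)) = 1 ∨
        P b (X.act x (X.act x (X.act (g ^ k) a))) = 1 := by
      omega
    rcases hfin with h | h | h
    · exact ⟨0, by rw [e0]; exact h⟩
    · exact ⟨1, by rw [e1]; exact h⟩
    · exact ⟨2, by rw [e2]; exact h⟩
  choose! ν hν using hdk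
  refine five X hb (fun k => X.act (x ^ ν k) (X.act (g ^ k) a)) (fun i _ => X.act_mem _ _ (X.act_mem _ _ ha)) hν ?_
  intro i hi j hj hij
  have h1 : X.act (g ^ j) a = X.act (g ^ (j - i)) (X.act (g ^ i) a) := by
    have h2 : g ^ j = g ^ (j - i) * g ^ i := by
      rw [← pow_add]
      congr 1
      omega
    rw [h2, map_mul]
    rfl
  have h3 : X.act g (X.act (g ^ i) a) ≠ X.act (g ^ i) a := by
    intro h
    apply hne
    have h4 : X.act g (X.act (g ^ i) a) = X.act (g ^ i) (X.act g a) := by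
      have h5 : g * g ^ i = g ^ i * g := (Commute.self_pow g i).eq
      have h6 := congrArg (fun q => X.act q a) h5
      simpa only [map_mul, Equiv.Perm.mul_apply] using h6
    rw [h4] at h
    exact (X.act (g ^ i)).injective h
  change P _ (X.act (x ^ ν j) (X.act (g ^ j) a)) = 0
  rw [h1]
  exact orth_pow X hx hx3 hp hp5 hgp hcom hcnd (X.act_mem _ _ ha) h3
    (cop hp (by omega) (by omega)) _ _

theorem mem_of_aΨ (X : Ctx K Y T M Φ Ψ P) {m : M} (h : aΨ X m = 1) : (m : Y) ∈ T := by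
  rw [X.act_T]
  intro a ha
  exact congrArg (fun q : Equiv.Perm Ψ => (q ⟨a, ha⟩ : Φ)) h

/-- **R5** -/
theorem nu_cyclic (X : Ctx K Y T M Φ Ψ P) {x y : M} (hxy : ⁅(x : Y), (y : Y)⁆ ∈ T) (hx3 : (x : Y) ^ 3 ∈ T)
    (hy3 : (y : Y) ^ 3 ∈ T) (hx : Nu X x) (hy : Nu X y) (h1 : Nu X (x * y)) (h2 : Nu X (x * y ^ 2)) : False := by
  obtain ⟨a, ha, -⟩ := X.rank
  have hcom := aΨ_commute X hxy
  have gx : aΨ X x ^ 3 = 1 := by
    rw [← map_pow]
    exact aΨ_eq_one X (by simpa using hx3)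
  have gy : aΨ X y ^ 3 = 1 := by
    rw [← map_pow]
    exact aΨ_eq_one X (by simpa using hy3)
  have hxy3 : ((x * y : M) : Y) ^ 3 ∈ T := by
    have h3 : aΨ X ((x * y) ^ 3) = 1 := by
      rw [map_pow, map_mul, hcom.mul_pow, gx, gy, one_mul]
    simpa using mem_of_aΨ X h3
  have hxy23 : ((x * y ^ 2 : M) : Y) ^ 3 ∈ T := by
    have h3 : aΨ X ((x * y ^ 2) ^ 3) = 1 := by
      rw [map_pow, map_mul, map_pow, (hcom.pow_right 2).mul_pow, gx, ← pow_mul, mul_comm 2 3, pow_mul, gy, one_pow,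
        one_mul]
    simpa using mem_of_aΨ X h3
  -- the action of the group of order 9
  have hact : ∀ m n : M, aΨ X m = aΨ X n → X.act m a = X.act n a := fun m n h =>
    congrArg (fun q : Equiv.Perm Ψ => (q ⟨a, ha⟩ : Φ)) h
  have f1 : X.act (x * y) (X.act (x * y) a) = X.act (x ^ 2 * y ^ 2) a := by
    have h3 := hact ((x * y) * (x * y)) (x ^ 2 * y ^ 2) (by
      rw [← pow_two, map_pow, map_mul, hcom.mul_pow, map_mul, map_pow, map_pow])
    rw [← h3, map_mul (X.act) (x * y) (x * y)]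
    rfl
  have f2 : X.act (x * y ^ 2) (X.act (x * y ^ 2) a) = X.act (x ^ 2 * y) a := by
    have h3 := hact ((x * y ^ 2) * (x * y ^ 2)) (x ^ 2 * y) (by
      rw [← pow_two, map_pow, map_mul, map_pow, (hcom.pow_right 2).mul_pow, ← pow_mul, map_mul, map_pow,
        (by norm_num : 2 * 2 = 3 + 1), pow_succ (aΨ X y) 3, gy, one_mul])
    rw [← h3, map_mul (X.act) (x * y ^ 2) (x * y ^ 2)]
    rfl
  have s1 := sum X hx hx3 ha a
  have s2 := sum X hy hy3 ha a
  have s3 := sum X h1 hxy3 ha a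
  have s4 := sum X h2 hxy23 ha a
  have s5 := sum X hx hx3 (X.act_mem y a ha) a
  have s6 := sum X hx hx3 (X.act_mem y _ (X.act_mem y a ha)) a
  rw [f1] at s3
  rw [f2] at s4
  have g1 : X.act (x * y) a = X.act x (X.act y a) := by rw [map_mul]; rfl
  have g2 : X.act (x ^ 2 * y ^ 2) a = X.act x (X.act x (X.act y (X.act y a))) := by
    rw [map_mul, map_pow, map_pow]; rfl
  have g3 : X.act (x * y ^ 2) a = X.act x (X.act y (X.act y a)) := by rw [map_mul, map_pow]; rfl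
  have g4 : X.act (x ^ 2 * y) a = X.act x (X.act x (X.act y a)) := by rw [map_mul, map_pow]; rfl
  rw [g1, g2] at s3
  rw [g3, g4] at s4
  rw [X.self] at s1 s2 s3 s4
  omega

/-- **R6** -/
theorem nine_le (X : Ctx K Y T M Φ Ψ P) (hA : A3 X) (hd : 3 ∣ Fintype.card K - 1) {x : M} (hx : Nu X x)
    (hx3 : (x : Y) ^ 3 ∈ T) {R : Subgroup Y} [Finite R] (hR : ∀ t ∈ T, t ^ 3 = 1 → ⁅t, (x : Y)⁆ ∈ R) :
    9 ≤ Nat.card R := by
  obtain ⟨a, ha, -⟩ := X.rank
  obtain ⟨ζ, hζ⟩ := exists_zeta hd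
  have hζ3 : ζ ^ 3 = 1 := by rw [← hζ]; exact pow_orderOf_eq_one ζ
  obtain ⟨b, hb, ⟨r, hr⟩, hb2⟩ := exists_out X hA hx hx3 ha
  have e0 : ∀ u : Φ, X.act (x ^ 0) u = u := fun u => by simp
  have e1 : ∀ u : Φ, X.act (x ^ 1) u = X.act x u := fun u => by rw [pow_one]
  have e2 : ∀ u : Φ, X.act (x ^ 2) u = X.act x (X.act x u) := fun u => by rw [map_pow]; rfl
  have hr' : P b a ≠ 0 ∨ P b (X.act x a) ≠ 0 ∨ P b (X.act x (X.act x a)) ≠ 0 := by
    rw [pow_mod X hx3 ha] at hr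
    have hn : r % 3 < 3 := Nat.mod_lt _ (by norm_num)
    rcases (by omega : r % 3 = 0 ∨ r % 3 = 1 ∨ r % 3 = 2) with h | h | h <;> rw [h] at hr
    · rw [e0] at hr; exact Or.inl hr
    · rw [e1] at hr; exact Or.inr (Or.inl hr)
    · rw [e2] at hr; exact Or.inr (Or.inr hr)
  have sa := sum X hx hx3 ha b
  rw [X.symm a, X.symm (X.act x a), X.symm (X.act x (X.act x a))] at sa
  have c0 := hb2 0
  have c1 := hb2 1
  have c2 := hb2 2
  rw [e0] at c0
  rw [e1] at c1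
  rw [e2] at c2
  have z0 := abs_le.1 (X.P_abs b a)
  have z1 := abs_le.1 (X.P_abs b (X.act x a))
  have z2 := abs_le.1 (X.P_abs b (X.act x (X.act x a)))
  -- the commutators
  have hcm : ∀ u ∈ Ψ, X.h u ζ * (X.h (X.act x u) ζ)⁻¹ ∈ R := by
    intro u hu
    have h2 : ⁅X.h u ζ, (x : Y)⁆ = X.h u ζ * (X.h (X.act x u) ζ)⁻¹ := by
      rw [← conj_h X x hu, commutatorElement_def]
      group
    rw [← h2]
    exact hR _ (X.h_mem u ζ) (by rw [← map_pow, hζ3, map_one])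
  have hχ : ∀ u ∈ Ψ, ∀ v ∈ Ψ, X.χ v (X.h u ζ * (X.h (X.act x u) ζ)⁻¹) = ζ ^ (P v u - P v (X.act x u)) := by
    intro u hu v hv
    rw [X.χ_mul v hv _ (X.h_mem _ _) _ (T.inv_mem (X.h_mem _ _)), chi_inv X hv (X.h_mem _ _), X.χ_h u hu v hv,
      X.χ_h _ (X.act_mem x u hu) v hv, zpow_sub]
  have hT : ∀ u : Φ, X.h u ζ * (X.h (X.act x u) ζ)⁻¹ ∈ T := fun u => T.mul_mem (X.h_mem _ _) (T.inv_mem (X.h_mem _ _))
  set A : Y := X.h a ζ * (X.h (X.act x a) ζ)⁻¹ with hAd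
  set B : Y := X.h b ζ * (X.h (X.act x b) ζ)⁻¹ with hBd
  have hAR : A ∈ R := hcm a ha
  have hBR : B ∈ R := hcm b hb
  have hAT : A ∈ T := hT a
  have hBT : B ∈ T := hT b
  have haA : X.χ a A = 1 := by
    rw [hAd, hχ a ha a ha, X.self, X.symm a, hx a ha, (by norm_num : (2 : ℤ) - -1 = ((3 : ℕ) : ℤ)), zpow_natCast, hζ3]
  have hbB : X.χ b B = 1 := by
    rw [hBd, hχ b hb b hb, X.self, X.symm b, hx b hb, (by norm_num : (2 : ℤ) - -1 = ((3 : ℕ) : ℤ)), zpow_natCast, hζ3]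
  have hbA : X.χ b A = ζ ^ (P b a - P b (X.act x a)) := hχ a ha b hb
  have haB : X.χ a B = ζ ^ (P b a - P b (X.act x (X.act x a))) := by
    rw [hBd, hχ b hb a ha, X.symm a b]
    congr 2
    have h4 := X.act_P x (X.act x (X.act x a)) b
    rw [act3 X hx3 ha] at h4
    rw [h4, X.symm]
  have hz : ∀ n : ℤ, ζ ^ n = 1 → (3 : ℤ) ∣ n := by
    intro n hn
    have := orderOf_dvd_iff_zpow_eq_one.2 hn
    rwa [hζ] at this
  have pw : ∀ v ∈ Ψ, ∀ t ∈ T, ∀ n : ℕ, X.χ v (t ^ n) = X.χ v t ^ n := by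
    intro v hv t ht n
    induction n with
    | zero => rw [pow_zero, pow_zero]; exact chi_one X hv
    | succ n ih => rw [pow_succ, X.χ_mul v hv _ (T.pow_mem ht n) _ ht, ih, pow_succ]
  let F : Fin 3 × Fin 3 → R := fun i => ⟨A ^ (i.1 : ℕ) * B ^ (i.2 : ℕ), R.mul_mem (R.pow_mem hAR _) (R.pow_mem hBR _)⟩
  have hF : Function.Injective F := by
    intro i j hij
    have h5 : A ^ (i.1 : ℕ) * B ^ (i.2 : ℕ) = A ^ (j.1 : ℕ) * B ^ (j.2 : ℕ) := congrArg Subtype.val hij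
    have h6 := congrArg (X.χ a) h5
    have h7 := congrArg (X.χ b) h5
    rw [X.χ_mul a ha _ (T.pow_mem hAT _) _ (T.pow_mem hBT _), X.χ_mul a ha _ (T.pow_mem hAT _) _ (T.pow_mem hBT _),
      pw a ha A hAT, pw a ha B hBT, pw a ha A hAT, pw a ha B hBT, haA, one_pow, one_mul, one_pow, one_mul, haB,
      ← zpow_natCast, ← zpow_natCast, ← zpow_mul, ← zpow_mul] at h6
    rw [X.χ_mul b hb _ (T.pow_mem hAT _) _ (T.pow_mem hBT _), X.χ_mul b hb _ (T.pow_mem hAT _) _ (T.pow_mem hBT _),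
      pw b hb A hAT, pw b hb B hBT, pw b hb A hAT, pw b hb B hBT, hbB, one_pow, mul_one, one_pow, mul_one, hbA,
      ← zpow_natCast, ← zpow_natCast, ← zpow_mul, ← zpow_mul] at h7
    have h8 : (3 : ℤ) ∣ (P b a - P b (X.act x (X.act x a))) * (i.2 : ℕ) -
        (P b a - P b (X.act x (X.act x a))) * (j.2 : ℕ) := by
      apply hz
      rw [zpow_sub, h6, mul_inv_cancel]
    have h9 : (3 : ℤ) ∣ (P b a - P b (X.act x a)) * (i.1 : ℕ) - (P b a - P b (X.act x a)) * (j.1 : ℕ) := by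
      apply hz
      rw [zpow_sub, h7, mul_inv_cancel]
    rw [← mul_sub] at h8 h9
    have h3p : Prime (3 : ℤ) := Int.prime_three
    have k8 := (h3p.dvd_mul.1 h8).resolve_left (by omega)
    have k9 := (h3p.dvd_mul.1 h9).resolve_left (by omega)
    have b1 := i.1.2; have b2 := i.2.2
    have d1 := j.1.2; have d2 := j.2.2
    have r1 : (i.1 : ℕ) = j.1 := by omega
    have r2 : (i.2 : ℕ) = j.2 := by omega
    exact Prod.ext (Fin.ext r1) (Fin.ext r2)
  have hc := Nat.card_le_card_of_injective F hF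
  simpa using hc

end nu

end Cfsg.Agent.H214.OT.NuR
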